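import Groth.Agent.IsoSepLib.Props
import Groth.Agent.IsoSmLib.Lift
import Groth.Agent.DecSec.DvrCrit2
import Groth.Agent.S10327
/-!
Separatedness read as extension of isomorphisms over discrete valuation rings.
-/

set_option autoImplicit false
set_option backward.isDefEq.respectTransparency false
set_option backward.isDefEq.respectTransparency.types false
set_option linter.unusedSectionVars false

universe u

open CategoryTheory CategoryTheory.Limits AlgebraicGeometry Opposite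

namespace Groth.Agent.IsoSepLib

open _root_.AlgSp Groth.Agent.ASt Groth.Agent.ASp

theorem map_inv_vert {S : Scheme.{u}} {𝒵 : AlgSt.Cat S} {a b : 𝒵.obj} (φ : a ⟶ b) [IsIso φ]
    {e : 𝒵.p.obj a = 𝒵.p.obj b} (h : 𝒵.p.map φ = eqToHom e) : 𝒵.p.map (inv φ) = eqToHom e.symm := by
  rw [← cancel_epi (𝒵.p.map φ), ← Functor.map_comp, IsIso.hom_inv_id, CategoryTheory.Functor.map_id, h]
  simp

variable {S : Scheme.{u}} {𝒳 𝒴 : AlgSt.Cat S} [h𝒳 : FibCat.IsFibGrpd 𝒳.p] [h𝒴 : FibCat.IsFibGrpd 𝒴.p]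
  {f : 𝒳 ⥤ᵇ 𝒴}

variable (f) in
/-- Isomorphisms extend along `j` compatibly with given isomorphisms of images. -/
def HasLift {V B : Over S} (j : V ⟶ B) : Prop :=
  ∀ (x₁ x₂ : 𝒳.obj) (hx₁ : 𝒳.p.obj x₁ = B) (hx₂ : 𝒳.p.obj x₂ = B) (γ : f.obj x₁ ⟶ f.obj x₂)
    (_ : 𝒴.p.map γ = eqToHom (((f.w_obj x₁).trans (hx₁.trans hx₂.symm)).trans (f.w_obj x₂).symm))
    (w : 𝒳.obj) (hw : 𝒳.p.obj w = V) (u₁ : w ⟶ x₁) (u₂ : w ⟶ x₂)
    (_ : 𝒳.p.map u₁ = eqToHom hw ≫ j ≫ eqToHom hx₁.symm)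
    (_ : 𝒳.p.map u₂ = eqToHom hw ≫ j ≫ eqToHom hx₂.symm),
    f.map u₁ ≫ γ = f.map u₂ →
      ∃ α : x₁ ⟶ x₂, 𝒳.p.map α = eqToHom (hx₁.trans hx₂.symm) ∧ u₁ ≫ α = u₂ ∧ f.map α = γ

variable (f) in
/-- Isomorphisms extend over discrete valuation rings. -/
def DvrLift : Prop :=
  ∀ (A K : Type u) [CommRing A] [IsDomain A] [IsDiscreteValuationRing A] [Field K] [Algebra A K]
    [IsFractionRing A K] (str : Spec (CommRingCat.of A) ⟶ S),
    HasLift f (Over.homMk (Spec.map (CommRingCat.ofHom (algebraMap A K))) rfl :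
      Over.mk (Spec.map (CommRingCat.ofHom (algebraMap A K)) ≫ str) ⟶ Over.mk str)

/-- Proper diagonal: isomorphisms extend. -/
theorem dvrLift_of_separated (h : AlgSt.IsSeparatedMor f) : DvrLift f := by
  intro A K _ _ _ _ _ _ str x₁ x₂ hx₁ hx₂ γ hγ w hw u₁ u₂ hu₁ hu₂ hu
  haveI : FibCat.IsFibGrpd (FibCat.fp f f).p := isFibGrpd_fp
  haveI := isIso_of_vert γ hγ
  let j : Over.mk (Spec.map (CommRingCat.ofHom (algebraMap A K)) ≫ str) ⟶ Over.mk str :=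
    Over.homMk (Spec.map (CommRingCat.ofHom (algebraMap A K))) rfl
  let m : (FibCat.fp f f).obj := fpMk x₁ x₂ (hx₂.trans hx₁.symm) (asIso γ) hγ
  let y : FibCat.overCat (Over.mk str) ⥤ᵇ FibCat.fp f f := objFun m hx₁
  obtain ⟨hs, hA, hP⟩ := (repByAlgSpWith_iff.1 h).2 (Over.mk str) y
  let π : (⟨fib y (FibCat.diag f), hs⟩ : Sp S) ⟶ (yon S).obj (Over.mk str) :=
    ObjectProperty.homMk (fibπ y (FibCat.diag f))
  let ψ : (FibCat.diag f).obj w ⟶ m := fpHomMk u₁ u₂ (hu.trans (Category.id_comp _).symm)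
  have hψ : (FibCat.fp f f).p.map ψ = eqToHom hw ≫ j ≫ eqToHom hx₁.symm := hu₁
  let φ : pull m hx₁ j ⟶ (FibCat.diag f).obj w := facMap ψ (pullHom m hx₁ j)
    (eqToHom ((pull_base m hx₁ j).trans hw.symm)) (by rw [hψ, map_pullHom]; simp)
  let P₀ : IsoSmLib.Pt (FibCat.diag f) y j := ⟨w, hw, φ, map_facMap _ _ _ _⟩
  let sq : ValSq π :=
    { A := A
      K := K
      str := str
      top := IsoSmLib.homOf P₀.el
      bot := 𝟙 _
      comm := by
        refine IsoSmLib.secOf_injective ?_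
        rw [IsoSmLib.secOf_comp, IsoSmLib.secOf_homOf, Category.comp_id]
        refine congrArg ULift.up ?_
        exact P₀.fpHom_el.trans rfl }
  have hqs : IsQuasiSeparatedMor π :=
    repWith_mono (fun _ _ g (hg : IsClosedImmersion g) => inferInstanceAs (QuasiCompact g)) hP.1
  obtain ⟨-, hex⟩ := ((Groth.Agent.S10327.result (X := ⟨_, hA⟩) (Y := ⟨_, IsAlgSpace.yon_obj _⟩)
    (ObjectProperty.homMk π) hP.2.1.2 hqs).2).1 ⟨hP.1, hP.2.2⟩
  obtain ⟨l, hl1, hl2⟩ := hex sq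
  obtain ⟨g, P, hPl⟩ := IsoSmLib.Pt.exists_el
    (IsoSmLib.secOf l : ClType (FibCat.fp y (FibCat.diag f)) (Over.mk str))
  obtain rfl : g = 𝟙 _ := by
    rw [← P.fpHom_el, hPl]
    exact congrArg ULift.down (congrArg IsoSmLib.secOf hl2)
  have h1 : clMap j P.el = P₀.el := by
    have := congrArg IsoSmLib.secOf hl1
    rw [IsoSmLib.secOf_map] at this
    rw [hPl]
    exact this.trans (IsoSmLib.secOf_homOf _)
  obtain ⟨t, ht, ht'⟩ := IsoSmLib.Pt.res_of_clMap (Category.comp_id j) h1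
  haveI := isIso_of_vert P.φ P.hφ
  let χ : (FibCat.diag f).obj P.x ⟶ m := inv P.φ ≫ pullHom m hx₁ (𝟙 _)
  have hχ : (FibCat.diag f).map t ≫ χ = ψ := by
    have e1 : y.map (ovHom j (Category.comp_id j)) ≫ pullHom m hx₁ (𝟙 _) = pullHom m hx₁ j := objMap_comp _ _ _
    haveI := isIso_of_vert φ (map_facMap _ _ _ _)
    rw [← cancel_epi φ, ← Category.assoc, ← ht']
    simp only [χ, Category.assoc, IsIso.hom_inv_id_assoc]
    exact e1.trans (facMap_comp _ _ _ _).symm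
  let a : P.x ⟶ x₁ := χ.hom.fst
  let b : P.x ⟶ x₂ := χ.hom.snd
  have ha : 𝒳.p.map a = eqToHom (P.hx.trans hx₁.symm) := by
    change (FibCat.fp f f).p.map χ = _
    rw [Functor.map_comp, map_inv_vert P.φ P.hφ, map_pullHom]
    simp
  haveI := isIso_of_vert a ha
  have hb : 𝒳.p.map b = eqToHom (P.hx.trans hx₂.symm) := by
    rw [fp_map_snd χ, show 𝒳.p.map χ.hom.fst = _ from ha]
    simp
  have hab : f.map a ≫ γ = f.map b := χ.hom.w.trans (Category.id_comp _)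
  have h1' : t ≫ a = u₁ := congrArg (fun k => k.hom.fst) hχ
  have h2' : t ≫ b = u₂ := congrArg (fun k => k.hom.snd) hχ
  refine ⟨inv a ≫ b, by rw [Functor.map_comp, map_inv_vert a ha, hb]; simp, ?_, ?_⟩
  · rw [← h1', ← h2', Category.assoc, IsIso.hom_inv_id_assoc]
  · rw [Functor.map_comp, Functor.map_inv, ← hab, IsIso.inv_hom_id_assoc]

/-- Extending isomorphisms give a proper diagonal over a Noetherian scheme. -/
theorem fibHas_of_dvrLift (hd : AlgSt.RepByAlgSpWith (IsSeparatedMor ⊓ IsQuasiCompactMor) (FibCat.diag f))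
    (hl : AlgSt.RepByAlgSpWith (LocP @LocallyOfFiniteType) (FibCat.diag f)) {W : Over S}
    [IsLocallyNoetherian W.left] (a : FibCat.overCat W ⥤ᵇ FibCat.fp f f) (h : DvrLift f) :
    FibHas IsProperMor a (FibCat.diag f) := by
  haveI : FibCat.IsFibGrpd (FibCat.fp f f).p := isFibGrpd_fp
  obtain ⟨hs, hA, hP⟩ := (repByAlgSpWith_iff.1 hd).2 W a
  obtain ⟨hs', hA', hP'⟩ := (repByAlgSpWith_iff.1 hl).2 W a
  let π : (⟨fib a (FibCat.diag f), hs⟩ : Sp S) ⟶ (yon S).obj W := ObjectProperty.homMk (fibπ a (FibCat.diag f))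
  have hft : IsFiniteTypeMor π := ⟨hP', hP.2⟩
  refine ⟨hs, hA, DecSec.isProperMor_of_dvr hA hA (IsAlgSpace.yon_obj W)
    ⟨W, 𝟙 _, repWith_id _ W, repWith_id _ W, inferInstance⟩ π hft hP.1 (𝟙 _)
    DecSec.isFiniteTypeMor_id (Function.Surjective.denseRange fun x => ⟨x, AlgSp.Points.map_id x⟩)
    fun sq hdvr _ => DecSec.hasLiftExt_of_hasLift sq ?_⟩
  obtain ⟨g, hg⟩ := (yon S).map_surjective sq.bot
  obtain ⟨g', P₀, hP₀⟩ := IsoSmLib.Pt.exists_el
    (IsoSmLib.secOf sq.top : ClType (FibCat.fp a (FibCat.diag f)) sq.ptK)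
  obtain rfl : g' = sq.j ≫ g := by
    rw [← P₀.fpHom_el, hP₀]
    have := congrArg IsoSmLib.secOf sq.comm
    rw [← hg, ← Functor.map_comp] at this
    exact (congrArg ULift.down this).trans (Category.id_comp (sq.j ≫ g) :)
  let M := a.obj (ov g)
  have hM : 𝒳.p.obj M.obj.fst = sq.ptA := (a.w_obj (ov g)).trans (ov_base g)
  haveI := isIso_of_vert P₀.φ P₀.hφ
  let ψ : (FibCat.diag f).obj P₀.x ⟶ M := inv P₀.φ ≫ a.map (ovHom sq.j (rfl : sq.j ≫ g = _))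
  have hψ : 𝒳.p.map ψ.hom.fst = eqToHom P₀.hx ≫ sq.j ≫ eqToHom hM.symm := by
    change (FibCat.fp f f).p.map ψ = _
    rw [Functor.map_comp, map_inv_vert P₀.φ P₀.hφ, map_w, ov_p_map]
    simp
  obtain ⟨α, hα, hα₁, hα₂⟩ := h sq.A sq.K sq.str M.obj.fst M.obj.snd hM ((fp_snd_base M).trans hM)
    M.obj.iso.hom (fp_iso_map M) P₀.x P₀.hx ψ.hom.fst ψ.hom.snd hψ
    (by rw [fp_map_snd ψ, hψ]; simp) (ψ.hom.w.trans (Category.id_comp _))
  let c : (FibCat.diag f).obj M.obj.fst ⟶ M := fpHomMk (𝟙 _) α (by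
    change f.map (𝟙 _) ≫ M.obj.iso.hom = 𝟙 _ ≫ f.map α
    rw [CategoryTheory.Functor.map_id, hα₂])
  have hc : (FibCat.fp f f).p.map c = eqToHom rfl := 𝒳.p.map_id _
  haveI := isIso_of_vert c hc
  let P : IsoSmLib.Pt (FibCat.diag f) a g := ⟨M.obj.fst, hM, inv c, (map_inv_vert c hc).trans rfl⟩
  have hres : IsoSmLib.Pt.Res sq.j rfl P₀ P := by
    refine ⟨ψ.hom.fst, hψ, ?_⟩
    rw [← cancel_mono c]
    simp only [Category.assoc]
    have e : inv c ≫ c = 𝟙 _ := IsIso.inv_hom_id c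
    change a.map (ovHom sq.j rfl) ≫ inv c ≫ c = P₀.φ ≫ (FibCat.diag f).map ψ.hom.fst ≫ c
    rw [e, Category.comp_id]
    have e2 : (FibCat.diag f).map ψ.hom.fst ≫ c = ψ := fp_hom_ext (Category.comp_id _) hα₁
    rw [e2]
    exact (IsIso.hom_inv_id_assoc P₀.φ _).symm
  refine ⟨IsoSmLib.homOf P.el, IsoSmLib.secOf_injective ?_, IsoSmLib.secOf_injective ?_⟩
  · rw [IsoSmLib.secOf_map, IsoSmLib.secOf_homOf, ← hP₀]
    exact hres.clMap
  · rw [IsoSmLib.secOf_comp, IsoSmLib.secOf_homOf, ← hg]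
    exact congrArg ULift.up (P.fpHom_el.trans (Category.id_comp _).symm)

end Groth.Agent.IsoSepLib
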