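import Groth.Agent.IsoSepLib.GlueTwo
import Groth.Agent.IsoSepLib.Lift
import Groth.Agent.IsoInertiaLib.Dvr
/-!
Extension of isomorphisms read on classes over the doubled scheme.
-/

set_option autoImplicit false
set_option backward.isDefEq.respectTransparency false
set_option backward.isDefEq.respectTransparency.types false
set_option linter.unusedSectionVars false

universe u

open CategoryTheory CategoryTheory.Limits AlgebraicGeometry

namespace Groth.Agent.IsoSepLib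

open Groth.Agent.ASt Groth.Agent.IsoAutLib Groth.Agent.IsoNatClean
open Groth.Agent.IsoInertiaLib (dblAlong)

variable {S : Scheme.{u}} {𝒳 𝒴 𝒳' 𝒴' : AlgSt.Cat S} [h𝒳 : FibCat.IsFibGrpd 𝒳.p] [h𝒴 : FibCat.IsFibGrpd 𝒴.p]
  [h𝒳' : FibCat.IsFibGrpd 𝒳'.p] [h𝒴' : FibCat.IsFibGrpd 𝒴'.p]
  {f : 𝒳 ⥤ᵇ 𝒴} {f' : 𝒳' ⥤ᵇ 𝒴'} {V B : Over S}

variable (f) in
/-- Classes on the double whose images come from the base come from the base. -/
def TrivPush (D : Doubled B) : Prop :=
  ∀ z : ClType 𝒳 D.X, (∃ e' : ClType 𝒴 B, clF f D.X z = clMap D.ρ e') →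
    ∃ e : ClType 𝒳 B, z = clMap D.ρ e

/-- The condition depends only on the map of presheaves of classes. -/
theorem trivPush_transfer (φ : IsoNat.FIsoSq f f') {D : Doubled B} (h : TrivPush f D) : TrivPush f' D := by
  intro z' hz'
  obtain ⟨e', he'⟩ := hz'
  obtain ⟨z, rfl⟩ := (φ.src.toEquiv D.X).surjective z'
  obtain ⟨e'', rfl⟩ := (φ.tgt.toEquiv B).surjective e'
  have hm : ∀ (T : Over S) (c : ClType 𝒳 T), φ.tgt.toEquiv T (clF f T c) = clF f' T (φ.src.toEquiv T c) := by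
    intro T c
    obtain ⟨x, hx, rfl⟩ := cl_exists c
    exact φ.comm T (cl x hx)
  have h1 : clF f D.X z = clMap D.ρ e'' :=
    (φ.tgt.toEquiv D.X).injective ((hm D.X z).trans (he'.trans (toEquiv_clMap φ.tgt D.ρ e'').symm))
  obtain ⟨e, rfl⟩ := h z ⟨e'', h1⟩
  exact ⟨φ.src.toEquiv B e, toEquiv_clMap φ.src D.ρ e⟩

/-- A morphism with no proper closed subscheme through which it factors. -/
def IsDense (j : V ⟶ B) : Prop :=
  ∀ {E : Over S} (e : E ⟶ B) (k : V ⟶ E), IsClosedImmersion e.left → k ≫ e = j → IsIso e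

theorem isDense_spec {A A' : CommRingCat.{u}} (g : A ⟶ A') (hg : Function.Injective g.hom) (q : Spec A ⟶ S) :
    IsDense (Over.homMk (Spec.map g) : Over.mk (Spec.map g ≫ q) ⟶ Over.mk q) := by
  intro E e k he hk
  haveI : IsClosedImmersion e.left := he
  haveI : IsIso e.left := isIso_of_dense g hg e.left k.left (congrArg (fun m => m.left) hk)
  haveI : IsIso ((Over.forget S).map e) := ‹IsIso e.left›
  exact isIso_of_reflects_iso e (Over.forget S)

section

variable (j : V ⟶ B) [IsOpenImmersion j.left]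

/-- The open as the common part of the double. -/
noncomputable def lV : V ⟶ (dblAlong j).Wo := (dblAlong j).liftW j (le_refl _)

/-- The common part of the double as the open. -/
noncomputable def lW : (dblAlong j).Wo ⟶ V :=
  Over.homMk (IsOpenImmersion.lift j.left (dblAlong j).W.ι (by
    rintro _ ⟨w, rfl⟩
    exact w.2)) (by
    change _ = (dblAlong j).W.ι ≫ B.hom
    rw [← Over.w j, IsOpenImmersion.lift_fac_assoc])

theorem lV_ι : lV j ≫ (dblAlong j).ιW = j := (dblAlong j).liftW_fac j _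

theorem lW_j : lW j ≫ j = (dblAlong j).ιW := Over.OverMorphism.ext (IsOpenImmersion.lift_fac _ _ _)

theorem lV_lW : lV j ≫ lW j = 𝟙 V := by
  haveI : Mono j := Over.mono_of_mono_left j
  rw [← cancel_mono j, Category.assoc, lW_j, lV_ι, Category.id_comp]

theorem j_agree : j ≫ (dblAlong j).i false = j ≫ (dblAlong j).i true := by
  exact (congrArg (· ≫ _) (lV_ι j).symm).trans ((Category.assoc _ _ _).trans
    ((congrArg (lV j ≫ ·) (dblAlong j).agree').trans
      ((Category.assoc _ _ _).symm.trans (congrArg (· ≫ _) (lV_ι j)))))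

/-- An object over the glued scheme whose two sheets are one object, compatibly on the open. -/
theorem cl_eq_clMap_ρ (hst : Stk.IsStack (AlgSp.J S) 𝒳) (x : 𝒳.obj) (hx : 𝒳.p.obj x = B) (pt : 𝒳.obj)
    (hb : 𝒳.p.obj pt = (dblAlong j).X) (π₁ π₂ : x ⟶ pt)
    (hπ₁ : 𝒳.p.map π₁ = eqToHom hx ≫ (dblAlong j).i false ≫ eqToHom hb.symm)
    (hπ₂ : 𝒳.p.map π₂ = eqToHom hx ≫ (dblAlong j).i true ≫ eqToHom hb.symm)
    (w : 𝒳.obj) (hw : 𝒳.p.obj w = V) (u : w ⟶ x) (hu : 𝒳.p.map u = eqToHom hw ≫ j ≫ eqToHom hx.symm)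
    (h : u ≫ π₁ = u ≫ π₂) :
    cl pt hb = clMap (dblAlong j).ρ (cl x hx) := by
  let D := dblAlong j
  let y := objFun x hx
  let J : Bool → (pull x hx (𝟙 B) ⟶ pt) := fun s => pullHom x hx (𝟙 B) ≫ bif s then π₂ else π₁
  have hJ : ∀ s, 𝒳.p.map (J s) = eqToHom (pull_base x hx (𝟙 B)) ≫ D.i s ≫ eqToHom hb.symm := by
    intro s
    rcases s with _ | _
    · simp only [J, cond_false, Functor.map_comp, map_pullHom, hπ₁]
      simp [D]
    · simp only [J, cond_true, Functor.map_comp, map_pullHom, hπ₂]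
      simp [D]
  let t : pull x hx (D.ιW ≫ D.r) ⟶ w := facMap u (pullHom x hx (D.ιW ≫ D.r))
    (eqToHom (pull_base x hx _) ≫ lW j ≫ eqToHom hw.symm) (by
      rw [hu, map_pullHom]
      simp [reassoc_of% (lW_j j)]
      rfl)
  have ht : t ≫ u = pullHom x hx (D.ιW ≫ D.r) := facMap_comp _ _ _ _
  let P : D.Twisted (1 : AutG y (D.ιW ≫ D.r)) := ⟨pt, hb, J, hJ, by
    rw [AutG.one_hom, Category.id_comp]
    have e : ∀ (π : x ⟶ pt), y.map (ovHom D.ιW (rfl : D.ιW ≫ D.r = _)) ≫ pullHom x hx (𝟙 B) ≫ π = t ≫ u ≫ π :=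
      fun π => by
        rw [← Category.assoc, ← Category.assoc t, ht]
        exact congrArg (· ≫ π) (objMap_comp x hx _)
    change _ ≫ pullHom x hx (𝟙 B) ≫ π₁ = _ ≫ pullHom x hx (𝟙 B) ≫ π₂
    rw [e, e, h]⟩
  have h1 : P.el = (Doubled.oneTwisted D y).el :=
    (Doubled.el_eq_iff hst P _).2 ⟨1, 1, by rw [AutG.res_one]⟩
  have hb0 : Doubled.base0 y = cl x hx := (clMap_cl_pull (𝟙 _) x hx).symm.trans (clMap_id _)
  refine h1.trans (Doubled.oneTwisted_el.trans ?_)
  rw [hb0]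

/-- Extending isomorphisms makes classes on the double trivial relative to the image. -/
theorem trivPush_of_hasLift (hst : Stk.IsStack (AlgSp.J S) 𝒳) (h : HasLift f j) : TrivPush f (dblAlong j) := by
  intro z hz
  obtain ⟨e', he'⟩ := hz
  obtain ⟨pt, hb, rfl⟩ := cl_exists z
  obtain ⟨w0, hw0, rfl⟩ := cl_exists e'
  let D := dblAlong j
  rw [clF_cl, clMap_cl_pull, cl_eq_iff] at he'
  obtain ⟨a, ha⟩ := he'
  let g := a ≫ pullHom w0 hw0 D.ρ
  have hg : 𝒴.p.map g = eqToHom ((f.w_obj pt).trans hb) ≫ D.ρ ≫ eqToHom hw0.symm := by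
    simp only [g, Functor.map_comp, ha, map_pullHom]
    simp [D]
  let xs : Bool → 𝒳.obj := fun s => pull pt hb (D.i s)
  have hxs : ∀ s, 𝒳.p.obj (xs s) = B := fun s => pull_base pt hb (D.i s)
  let π : ∀ s, xs s ⟶ pt := fun s => pullHom pt hb (D.i s)
  have hπ : ∀ s, 𝒳.p.map (π s) = eqToHom (hxs s) ≫ D.i s ≫ eqToHom hb.symm := fun s => map_pullHom _ _ _
  have hv : ∀ s, 𝒴.p.map (f.map (π s) ≫ g) = eqToHom (((f.w_obj _).trans (hxs s)).trans hw0.symm) := by
    intro s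
    rw [Functor.map_comp, map_w, hπ, hg]
    simp only [Category.assoc, eqToHom_trans_assoc, eqToHom_refl, Category.id_comp]
    rw [reassoc_of% (D.hi s)]
    simp [D, dblAlong, Doubled.of]
  haveI := fun s => isIso_of_vert (f.map (π s) ≫ g) (hv s)
  let γ : f.obj (xs false) ⟶ f.obj (xs true) := (f.map (π false) ≫ g) ≫ inv (f.map (π true) ≫ g)
  have hγ : 𝒴.p.map γ = eqToHom (((f.w_obj _).trans ((hxs false).trans (hxs true).symm)).trans (f.w_obj _).symm) := by
    rw [Functor.map_comp, hv, map_inv_vert _ (hv true)]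
    simp
  let w := pull (xs false) (hxs false) j
  have hw : 𝒳.p.obj w = V := pull_base _ _ _
  let u₁ : w ⟶ xs false := pullHom (xs false) (hxs false) j
  have hu₁ : 𝒳.p.map u₁ = eqToHom hw ≫ j ≫ eqToHom (hxs false).symm := map_pullHom _ _ _
  let u₂ : w ⟶ xs true := facMap (π true) (u₁ ≫ π false) (eqToHom hw ≫ j ≫ eqToHom (hxs true).symm) (by
    rw [Functor.map_comp, hu₁, hπ, hπ]
    simp [D, reassoc_of% (j_agree j)])
  have hu₂ : 𝒳.p.map u₂ = eqToHom hw ≫ j ≫ eqToHom (hxs true).symm := map_facMap _ _ _ _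
  have huπ : u₂ ≫ π true = u₁ ≫ π false := facMap_comp _ _ _ _
  have hu : f.map u₁ ≫ γ = f.map u₂ := by
    rw [← cancel_mono (f.map (π true) ≫ g), Category.assoc]
    simp only [γ, Category.assoc, IsIso.inv_hom_id, Category.comp_id]
    rw [← Functor.map_comp_assoc, ← Functor.map_comp_assoc, huπ]
  obtain ⟨α, hα, hα₁, -⟩ := h (xs false) (xs true) (hxs false) (hxs true) γ hγ w hw u₁ u₂ hu₁ hu₂ hu
  refine ⟨cl (xs false) (hxs false), cl_eq_clMap_ρ j hst (xs false) (hxs false) pt hb (π false) (α ≫ π true)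
    (hπ false) ?_ w hw u₁ hu₁ ?_⟩
  · rw [Functor.map_comp, hα, hπ]
    simp
    all_goals rfl
  · rw [← Category.assoc, hα₁, huπ]

/-- Trivial classes on the double make isomorphisms extend, when the target has separated diagonal. -/
theorem hasLift_of_trivPush (hst : Stk.IsStack (AlgSp.J S) 𝒳) (hstY : Stk.IsStack (AlgSp.J S) 𝒴)
    (hdY : AlgSt.RepByAlgSpWith (AlgSp.IsSeparatedMor ⊓ AlgSp.IsQuasiCompactMor)
      (FibCat.diag (FibCat.toSelf 𝒴)))
    (hden : IsDense j) (h : TrivPush f (dblAlong j)) : HasLift f j := by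
  intro x₁ x₂ hx₁ hx₂ γ hγ w hw u₁ u₂ hu₁ hu₂ hu
  let D := dblAlong j
  let xs : Bool → 𝒳.obj := fun s => bif s then x₂ else x₁
  have hxs : ∀ s, 𝒳.p.obj (xs s) = B := fun s => by cases s <;> assumption
  let y : Bool → (FibCat.overCat D.R ⥤ᵇ 𝒳) := fun s => objFun (xs s) (hxs s)
  let t : pull x₁ hx₁ D.ιW ⟶ w := facMap u₁ (pullHom x₁ hx₁ D.ιW)
    (eqToHom (pull_base _ _ _) ≫ lW j ≫ eqToHom hw.symm) (by
      rw [hu₁, map_pullHom]
      simp [D, reassoc_of% (lW_j j)])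
  have ht : t ≫ u₁ = pullHom x₁ hx₁ D.ιW := facMap_comp _ _ _ _
  let aW : (y false).obj (ov D.ιW) ⟶ (y true).obj (ov D.ιW) :=
    facMap (pullHom x₂ hx₂ D.ιW) (t ≫ u₂) (eqToHom ((pull_base x₁ hx₁ _).trans (pull_base x₂ hx₂ _).symm)) (by
      rw [Functor.map_comp, map_facMap, hu₂, map_pullHom]
      simp [D, reassoc_of% (lW_j j)])
  have haW : 𝒳.p.map aW = eqToHom (((y false).w_obj _).trans ((y true).w_obj _).symm) := map_facMap _ _ _ _
  have haW' : aW ≫ pullHom x₂ hx₂ D.ιW = t ≫ u₂ := facMap_comp _ _ _ _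
  obtain ⟨pt, hb, J, hJ, hrel⟩ := exists_glued y aW haW hst
  haveI := fun s => isIso_of_vert (pullHom (xs s) (hxs s) (𝟙 B))
    (e := (pull_base _ _ _).trans (hxs s).symm) (by simp [map_pullHom])
  let π : ∀ s, xs s ⟶ pt := fun s => inv (pullHom (xs s) (hxs s) (𝟙 B)) ≫ J s
  have hπ : ∀ s, 𝒳.p.map (π s) = eqToHom (hxs s) ≫ D.i s ≫ eqToHom hb.symm := by
    intro s
    rw [Functor.map_comp, map_inv_vert (pullHom (xs s) (hxs s) (𝟙 B))
      (e := (pull_base _ _ _).trans (hxs s).symm) (by simp [map_pullHom]), hJ]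
    exact eqToHom_trans_assoc _ _ _
  have hJπ : ∀ s, (y s).map (ovHom D.ιW (Category.comp_id _)) ≫ J s = pullHom (xs s) (hxs s) D.ιW ≫ π s := by
    intro s
    have e : (y s).map (ovHom D.ιW (Category.comp_id _)) ≫ pullHom (xs s) (hxs s) (𝟙 B) =
        pullHom (xs s) (hxs s) D.ιW := objMap_comp _ _ _
    rw [← e, Category.assoc]
    simp only [π, IsIso.hom_inv_id_assoc]
  rw [hJπ, hJπ] at hrel
  have hrel' : t ≫ u₂ ≫ π true = t ≫ u₁ ≫ π false := by
    rw [← Category.assoc, ← haW', ← Category.assoc t, ht, Category.assoc]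
    exact hrel
  let t' : w ⟶ pull x₁ hx₁ D.ιW := facMap (pullHom x₁ hx₁ D.ιW) u₁
    (eqToHom hw ≫ lV j ≫ eqToHom (pull_base x₁ hx₁ _).symm) (by
      rw [map_pullHom, hu₁]
      simp [D, reassoc_of% (lV_ι j)])
  have ht' : t' ≫ t = 𝟙 w := by
    refine hom_ext u₁ ?_ ?_
    · rw [Functor.map_comp, map_facMap, map_facMap, CategoryTheory.Functor.map_id]
      simp [reassoc_of% (lV_lW j)]
    · rw [Category.assoc, ht, Category.id_comp]
      exact facMap_comp _ _ _ _
  have key : u₁ ≫ π false = u₂ ≫ π true := by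
    rw [← Category.id_comp (u₁ ≫ π false), ← Category.id_comp (u₂ ≫ π true), ← ht', Category.assoc,
      Category.assoc, hrel']
  -- the image of the glued object comes from the base
  have himg : clF f D.X (cl pt hb) = clMap D.ρ (cl (f.obj x₁) ((f.w_obj x₁).trans hx₁)) := by
    refine cl_eq_clMap_ρ j hstY (f.obj x₁) ((f.w_obj x₁).trans hx₁) (f.obj pt) ((f.w_obj pt).trans hb)
      (f.map (π false)) (γ ≫ f.map (π true)) ?_ ?_ (f.obj w) ((f.w_obj w).trans hw) (f.map u₁) ?_ ?_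
    · rw [map_w, hπ]
      simp [xs]
      all_goals rfl
    · rw [Functor.map_comp, hγ, map_w, hπ]
      simp [xs]
      all_goals rfl
    · rw [map_w, hu₁]
      simp
    · rw [← Category.assoc, hu, ← Functor.map_comp, ← Functor.map_comp, key]
  obtain ⟨e, he⟩ := h (cl pt hb) ⟨_, himg⟩
  obtain ⟨e0, he0, rfl⟩ := cl_exists e
  rw [clMap_cl_pull, cl_eq_iff] at he
  obtain ⟨a, ha⟩ := he
  let g := a ≫ pullHom e0 he0 D.ρ
  have hg : 𝒳.p.map g = eqToHom hb ≫ D.ρ ≫ eqToHom he0.symm := by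
    simp only [g, Functor.map_comp, ha, map_pullHom]
    simp [D]
  have hv : ∀ s, 𝒳.p.map (π s ≫ g) = eqToHom ((hxs s).trans he0.symm) := by
    intro s
    rw [Functor.map_comp, hπ, hg]
    simp only [Category.assoc, eqToHom_trans_assoc, eqToHom_refl, Category.id_comp]
    rw [reassoc_of% (D.hi s)]
    simp [D, dblAlong, Doubled.of]
  haveI := fun s => isIso_of_vert (π s ≫ g) (hv s)
  let α : x₁ ⟶ x₂ := (π false ≫ g) ≫ inv (π true ≫ g)
  have hα : 𝒳.p.map α = eqToHom (hx₁.trans hx₂.symm) := by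
    rw [Functor.map_comp, hv, map_inv_vert _ (hv true)]
    exact eqToHom_trans _ _
  have hα₁ : u₁ ≫ α = u₂ := by
    change u₁ ≫ (π false ≫ g) ≫ inv (π true ≫ g) = u₂
    rw [← Category.assoc, IsIso.comp_inv_eq, ← Category.assoc, key, Category.assoc]
  refine ⟨α, hα, hα₁, ext_dense hdY ?_ (f.map u₁) ?_ ?_⟩
  · rw [map_w, hα, hγ]
    simp
  · intro E e k hcl hk
    haveI : IsClosedImmersion e.left := hcl
    have hE : (eqToHom ((f.w_obj w).trans hw).symm ≫ k) ≫ e ≫ eqToHom ((f.w_obj x₁).trans hx₁) = j := by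
      rw [Category.assoc, reassoc_of% hk, map_w, hu₁]
      simp
    have hc : IsClosedImmersion (e ≫ eqToHom ((f.w_obj x₁).trans hx₁)).left := by
      change IsClosedImmersion (e.left ≫ (eqToHom _ : _ ⟶ B).left)
      infer_instance
    haveI := hden (e ≫ eqToHom ((f.w_obj x₁).trans hx₁)) _ hc hE
    exact IsIso.of_isIso_comp_right e (eqToHom ((f.w_obj x₁).trans hx₁))
  · rw [← Functor.map_comp, hα₁, hu]

end

end Groth.Agent.IsoSepLib
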