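import Groth.Agent.IsoAutLib.DoubleMap
/-!
Two objects over a scheme glued along an isomorphism over an open.
-/

set_option autoImplicit false
set_option backward.isDefEq.respectTransparency false
set_option backward.isDefEq.respectTransparency.types false
set_option linter.unusedSectionVars false

universe u

open CategoryTheory AlgebraicGeometry

namespace Groth.Agent.IsoSepLib

open Groth.Agent.ASt Groth.Agent.RepOne Groth.Agent.IsoNatClean Groth.Agent.IsoAutLib

variable {S : Scheme.{u}} {B : Over S} {D : Doubled B} {𝒳 : AlgSt.Cat S} [h𝒳 : FibCat.IsFibGrpd 𝒳.p]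
  (y : Bool → (FibCat.overCat D.R ⥤ᵇ 𝒳))
  (α : (y false).obj (ov D.ιW) ⟶ (y true).obj (ov D.ιW))
  (hα : 𝒳.p.map α = eqToHom (((y false).w_obj _).trans ((y true).w_obj _).symm))

/-- The morphisms of both values on the common open to one of them. -/
noncomputable def anchor : ∀ s, (y s).obj (ov D.ιW) ⟶ (y true).obj (ov D.ιW)
  | false => α
  | true => 𝟙 _

include hα in
theorem map_anchor (s : Bool) :
    𝒳.p.map (anchor y α s) = eqToHom (((y s).w_obj _).trans ((y true).w_obj _).symm) := by
  cases s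
  · exact hα
  · exact (𝒳.p.map_id _).trans rfl

/-- The comparison of a value on a morphism landing in the common open. -/
noncomputable def qW (s : Bool) {V : Over S} (L : V ⟶ D.R)
    (h : Set.range L.left ⊆ (D.W : Set ↥D.R.left)) : (y s).obj (ov L) ⟶ (y true).obj (ov D.ιW) :=
  (y s).map (ovHom (D.liftW L h) (D.liftW_fac L h)) ≫ anchor y α s

include hα in
theorem map_qW (s : Bool) {V : Over S} (L : V ⟶ D.R) (h : Set.range L.left ⊆ (D.W : Set ↥D.R.left)) :
    𝒳.p.map (qW y α s L h) =
      eqToHom (((y s).w_obj _).trans (ov_base L)) ≫ D.liftW L h ≫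
        eqToHom (((y true).w_obj _).trans (ov_base D.ιW)).symm := by
  rw [qW, Functor.map_comp, map_anchor y α hα, map_w, ov_p_map]
  simp

include hα in
theorem qW_comp (s : Bool) {V' V : Over S} (g : V' ⟶ V) (L : V ⟶ D.R) (L' : V' ⟶ D.R) (e : g ≫ L = L')
    (h : Set.range L.left ⊆ (D.W : Set ↥D.R.left)) (h' : Set.range L'.left ⊆ (D.W : Set ↥D.R.left)) :
    (y s).map (ovHom g e) ≫ qW y α s L h = qW y α s L' h' := by
  rw [qW, qW, ← Category.assoc, ← Functor.map_comp]
  congr 2
  apply Over.OverMorphism.ext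
  refine (cancel_mono D.ιW).1 ?_
  change (g ≫ D.liftW L h) ≫ D.ιW = D.liftW L' h' ≫ D.ιW
  rw [Category.assoc, D.liftW_fac, D.liftW_fac, e]

/-- The transition between sheets. -/
noncomputable def θ (s s' : Bool) {V : Over S} (L : V ⟶ D.R)
    (h : s ≠ s' → Set.range L.left ⊆ (D.W : Set ↥D.R.left)) : (y s).obj (ov L) ⟶ (y s').obj (ov L) :=
  if hs : s = s' then eqToHom (by rw [hs]) else
    facMap (qW y α s' L (h hs)) (qW y α s L (h hs)) (eqToHom (((y s).w_obj _).trans ((y s').w_obj _).symm))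
      (by rw [map_qW y α hα, map_qW y α hα]; simp)

theorem θ_self (s : Bool) {V : Over S} (L : V ⟶ D.R)
    (h : s ≠ s → Set.range L.left ⊆ (D.W : Set ↥D.R.left)) : θ y α hα s s L h = 𝟙 _ := by
  simp [θ]

theorem map_θ (s s' : Bool) {V : Over S} (L : V ⟶ D.R) (h) :
    𝒳.p.map (θ y α hα s s' L h) = eqToHom (((y s).w_obj _).trans ((y s').w_obj _).symm) := by
  unfold θ
  split_ifs with hs
  · subst hs
    simp
  · exact map_facMap _ _ _ _

theorem θ_qW (s s' : Bool) {V : Over S} (L : V ⟶ D.R) (h) (hW : Set.range L.left ⊆ (D.W : Set ↥D.R.left)) :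
    θ y α hα s s' L h ≫ qW y α s' L hW = qW y α s L hW := by
  unfold θ
  split_ifs with hs
  · subst hs
    simp
  · exact facMap_comp _ _ _ _

theorem θ_mul (s s' s'' : Bool) {V : Over S} (L : V ⟶ D.R) (h₁) (h₂) (h₃) :
    θ y α hα s s' L h₁ ≫ θ y α hα s' s'' L h₂ = θ y α hα s s'' L h₃ := by
  rcases eq_or_ne s s' with rfl | hs
  · rw [θ_self, Category.id_comp]
  have hW := h₁ hs
  refine hom_ext (qW y α s'' L hW) ?_ ?_
  · rw [Functor.map_comp, map_θ, map_θ, map_θ]
    simp
  · rw [Category.assoc, θ_qW, θ_qW, θ_qW]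

theorem θ_natural (s s' : Bool) {V' V : Over S} (g : V' ⟶ V) (L : V ⟶ D.R) (L' : V' ⟶ D.R) (e : g ≫ L = L')
    (h) (h') :
    (y s).map (ovHom g e) ≫ θ y α hα s s' L h = θ y α hα s s' L' h' ≫ (y s').map (ovHom g e) := by
  rcases eq_or_ne s s' with rfl | hs
  · rw [θ_self, θ_self, Category.comp_id, Category.id_comp]
  have hW := h hs
  have hW' := h' hs
  refine hom_ext (qW y α s' L hW) ?_ ?_
  · rw [Functor.map_comp, Functor.map_comp, map_θ, map_θ]
    simp [map_w, ov_p_map]
  · rw [Category.assoc, Category.assoc, θ_qW, qW_comp y α hα s g L L' e hW hW',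
      qW_comp y α hα s' g L L' e hW hW', θ_qW]

/-- The gluing datum. -/
noncomputable def datum : Stk.sieveCat D.sieve ⥤ᵇ 𝒳 where
  toFunctor :=
    { obj := fun t => (y (D.side t)).obj (ov (D.lift t))
      map := fun {t t'} m => θ y α hα (D.side t) (D.side t') (D.lift t) (D.lift_comp m).2 ≫
        (y (D.side t')).map (ovHom m.hom.left (D.lift_comp m).1.symm)
      map_id := fun t => by
        rw [θ_self, Category.id_comp, ← CategoryTheory.Functor.map_id]
        congr 1
      map_comp := fun {t t' t''} m n => by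
        have h1 := (D.lift_comp m).1
        rw [Category.assoc, ← Category.assoc ((y (D.side t')).map _),
          θ_natural y α hα (D.side t') (D.side t'') m.hom.left (D.lift t') (D.lift t) h1.symm (D.lift_comp n).2
            (fun hs => by
              rw [h1]
              rintro _ ⟨z, rfl⟩
              exact (D.lift_comp n).2 hs ⟨_, rfl⟩),
          Category.assoc, ← Category.assoc (θ y α hα (D.side t) (D.side t') _ _), θ_mul y α hα _ _ _ _ _ _
            (D.lift_comp (m ≫ n)).2, ← Functor.map_comp]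
        congr 2 }
  w := CategoryTheory.Functor.ext (F := _ ⋙ 𝒳.p) (G := (Stk.sieveCat D.sieve).p)
    (fun t => ((y _).w_obj _).trans (ov_base _)) (fun t t' m => by
      simp [map_θ, map_w, ov_p_map]
      rfl)

include hα in
/-- Two objects glue along an isomorphism over the common open. -/
theorem exists_glued (hst : Stk.IsStack (AlgSp.J S) 𝒳) :
    ∃ (pt : 𝒳.obj) (hb : 𝒳.p.obj pt = D.X) (J : ∀ s, (y s).obj (ov (𝟙 D.R)) ⟶ pt),
      (∀ s, 𝒳.p.map (J s) = eqToHom (((y s).w_obj _).trans (ov_base _)) ≫ D.i s ≫ eqToHom hb.symm) ∧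
        α ≫ (y true).map (ovHom D.ιW (Category.comp_id _)) ≫ J true =
          (y false).map (ovHom D.ιW (Category.comp_id _)) ≫ J false := by
  obtain ⟨k⟩ := (isStack_iff.1 hst D.sieve D.sieve_mem).2 (datum y α hα)
  let mem : Bool → D.Mem := fun s => ⟨Over.mk (D.i s), s, 𝟙 _, Category.id_comp _⟩
  have hmem : ∀ s, (𝟙 D.R : D.R ⟶ D.R) = D.lift (mem s) ∧
      (s ≠ D.side (mem s) → Set.range (𝟙 D.R : D.R ⟶ D.R).left ⊆ (D.W : Set ↥D.R.left)) := fun s => by
    refine D.lifts_eq ?_
    rw [D.lift_fac, Category.id_comp]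
    rfl
  let J : ∀ s, (y s).obj (ov (𝟙 D.R)) ⟶ k.pt := fun s =>
    θ y α hα s (D.side (mem s)) (𝟙 D.R) (hmem s).2 ≫
      (y (D.side (mem s))).map (ovHom (𝟙 D.R) ((Category.id_comp _).trans (hmem s).1.symm) :
        ov (𝟙 D.R) ⟶ ov (D.lift (mem s))) ≫ k.ι (mem s)
  let w : D.Mem := ⟨Over.mk (D.ιW ≫ D.i false), false, D.ιW, rfl⟩
  have hw : D.lift w = D.ιW :=
    (D.lifts_eq (s := D.side w) (s' := false) (L := D.lift w) (L' := D.ιW) (D.lift_fac w)).1
  have hι : Set.range D.ιW.left ⊆ (D.W : Set ↥D.R.left) := by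
    rintro _ ⟨a, rfl⟩
    exact a.2
  have key : ∀ s, (y s).map (ovHom D.ιW (Category.comp_id _)) ≫ J s =
      θ y α hα s (D.side w) D.ιW (fun _ => hι) ≫
        (y (D.side w)).map (ovHom (𝟙 D.Wo) ((Category.id_comp _).trans hw) : ov D.ιW ⟶ ov (D.lift w)) ≫ k.ι w :=
      fun s => by
    let m : w ⟶ mem s := ObjectProperty.homMk (Over.homMk D.ιW (by
      change D.ιW ≫ D.i s = D.ιW ≫ D.i false
      rcases s with _ | _
      · rfl
      · exact D.agree'.symm))
    have hn : _ = k.ι w := k.nat m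
    change (_ ≫ _) ≫ _ = _ at hn
    rw [← hn]
    simp only [J, ← Category.assoc]
    rw [θ_natural y α hα s _ D.ιW (𝟙 D.R) D.ιW (Category.comp_id _) _ (fun _ => hι),
      ← θ_mul y α hα s (D.side w) (D.side (mem s)) D.ιW (fun _ => hι) (fun _ => hι) (fun _ => hι)]
    simp only [Category.assoc]
    congr 1
    rw [← Category.assoc ((y (D.side w)).map _) (θ y α hα _ _ (D.lift w) _),
      θ_natural y α hα (D.side w) (D.side (mem s)) (𝟙 D.Wo) (D.lift w) D.ιW ((Category.id_comp _).trans hw) _
        (fun _ => hι)]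
    simp only [Category.assoc]
    congr 1
    simp only [← Category.assoc, ← Functor.map_comp]
    congr 2
  refine ⟨k.pt, k.base, J, fun s => ?_, ?_⟩
  · simp [J, map_θ, map_w, ov_p_map, k.map_ι, mem, datum]
    erw [Category.id_comp]
  · have hα' : α = θ y α hα false true D.ιW (fun _ => hι) := by
      refine hom_ext (qW y α true D.ιW hι) ?_ ?_
      · rw [map_θ, hα]
      · rw [θ_qW]
        have e : D.liftW D.ιW hι = 𝟙 _ :=
          (cancel_mono D.ιW).1 ((D.liftW_fac _ hι).trans (Category.id_comp _).symm)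
        have e' : ∀ b, (y b).map (ovHom (D.liftW D.ιW hι) (D.liftW_fac _ hι)) = 𝟙 _ := fun b => by
          rw [← CategoryTheory.Functor.map_id]
          congr 1
          exact Over.OverMorphism.ext e
        simp only [qW, anchor, e']
        simp
    rw [key false, key true]
    refine (congrArg (· ≫ _) hα').trans ?_
    rw [← Category.assoc, θ_mul y α hα false true (D.side w) D.ιW _ _ (fun _ => hι)]

end Groth.Agent.IsoSepLib
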