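import Groth.Agent.IsoSepLib.Glue
import Groth.Agent.ASt.DiagLft
import Groth.Agent.ASt.RepDesc
import Groth.Agent.S10536
/-!
Separatedness is read off from the map of presheaves of classes.
-/

set_option autoImplicit false
set_option backward.isDefEq.respectTransparency false
set_option backward.isDefEq.respectTransparency.types false
set_option linter.unusedSectionVars false

universe u

open CategoryTheory CategoryTheory.Limits AlgebraicGeometry Opposite

namespace Groth.Agent.IsoSepLib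

open _root_.AlgSp Groth.Agent.ASt Groth.Agent.ASp

variable {S : Scheme.{u}} {𝒳 𝒴 𝒳' 𝒴' : AlgSt.Cat S} [h𝒳 : FibCat.IsFibGrpd 𝒳.p] [h𝒴 : FibCat.IsFibGrpd 𝒴.p]
  [h𝒳' : FibCat.IsFibGrpd 𝒳'.p] [h𝒴' : FibCat.IsFibGrpd 𝒴'.p]
  {f : 𝒳 ⥤ᵇ 𝒴} {f' : 𝒳' ⥤ᵇ 𝒴'}

/-- Extension of isomorphisms over discrete valuation rings is read off from the classes. -/
theorem dvrLift_transfer (φ : IsoNat.FIsoSq f f') (hst : Stk.IsStack (AlgSp.J S) 𝒳)
    (hst' : Stk.IsStack (AlgSp.J S) 𝒳') (hstY' : Stk.IsStack (AlgSp.J S) 𝒴')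
    (hdY' : AlgSt.RepByAlgSpWith (IsSeparatedMor ⊓ IsQuasiCompactMor) (FibCat.diag (FibCat.toSelf 𝒴')))
    (h : DvrLift f) : DvrLift f' := by
  intro A K _ _ _ _ _ _ str
  haveI := IsoInertiaLib.isOpenImmersion_generic A K
  let j : Over.mk (Spec.map (CommRingCat.ofHom (algebraMap A K)) ≫ str) ⟶ Over.mk str :=
    Over.homMk (Spec.map (CommRingCat.ofHom (algebraMap A K))) rfl
  haveI : IsOpenImmersion j.left := ‹_›
  exact hasLift_of_trivPush j hst' hstY' hdY'
    (isDense_spec _ (IsFractionRing.injective A K) str)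
    (trivPush_transfer φ (trivPush_of_hasLift j hst (h A K str)))

/-- Separatedness is read off from the map of presheaves of classes. -/
theorem isSeparatedMor_of_fIsoSq (φ : IsoNat.FIsoSq f f') (hst : Stk.IsStack (AlgSp.J S) 𝒳)
    (hX' : AlgSt.IsAlgStack Scheme.fppfPrecoverage 𝒳') (hY' : AlgSt.IsAlgStack Scheme.fppfPrecoverage 𝒴')
    (hXd' : AlgSt.RepByAlgSpWith (IsSeparatedMor ⊓ IsQuasiCompactMor) (FibCat.diag (FibCat.toSelf 𝒳')))
    (hYd' : AlgSt.RepByAlgSpWith (IsSeparatedMor ⊓ IsQuasiCompactMor) (FibCat.diag (FibCat.toSelf 𝒴')))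
    (hft' : AlgSt.LocQ (LocP @LocallyOfFiniteType) f')
    (hN' : AlgSt.SmoothLocally (fun X => IsLocallyNoetherian X) 𝒴')
    (hf : AlgSt.IsSeparatedMor f) : AlgSt.IsSeparatedMor f' := by
  have hlift := dvrLift_transfer φ hst hX'.isStack hY'.isStack hYd' (dvrLift_of_separated hf)
  have hd := sepQc_diag f' hXd' hYd'
  have hrep : AlgSt.RepByAlgSp1 (FibCat.diag f') := repByAlgSp1_of_with hd
  haveI : FibCat.IsFibGrpd (FibCat.fp f' f').p := isFibGrpd_fp
  obtain ⟨W, a, hW, ha, has⟩ := exists_noeth_atlas f' hY' (repByAlgSp1_of_with hXd') hft' hN'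
  haveI := hW
  have h0 := fibHas_of_dvrLift hd (lft_diag hX' hY' f') a hlift
  refine repByAlgSpWith_iff.2 ⟨faithful_of_repByAlgSp1 hrep, fun U y => ?_⟩
  obtain ⟨V, l, u, hl, hls, ⟨β⟩⟩ := exists_overMap_iso ha has y
  haveI : Smooth l.left := hl
  haveI : Surjective l.left := hls
  have hP₂ : IsLocalOnBase IsFppfCover (IsProperMor : MorphismProperty (Sp S)) :=
    fun {ι'} {Y'} Yi g hY' hYi hτ => Groth.Agent.S10536.result S Yi g hY' hYi
      (isFpqcCover_of_fppf hY' hYi (fun i => (hτ.1 i).1) (fun i => (hτ.1 i).2) hτ.2)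
  refine fibHas_of_cover hP₂ hrep l y (fibHas_congr β.symm (fibHas_restr ?_ hrep u a h0))
  intro X₁ Y₁ X₂ Y₂ h1 h2 _ h4 _ _ _ _ sq hp
  exact proper_baseChange h1 h2 h4 sq hp

end Groth.Agent.IsoSepLib
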