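import Groth.Agent.ASt.DiagCancel
import Groth.Agent.ASt.FpAtlas
import Groth.Agent.ASt.OverMapRep
import Groth.Agent.ASt.SmLocally
import Groth.Agent.ASt.Chart
import Groth.Agent.ASt.PtsTop
import Groth.Agent.ASp.LargestOpen
/-!
The diagonal of a morphism of algebraic stacks; Noetherian charts of self products.
-/

set_option autoImplicit false
set_option backward.isDefEq.respectTransparency false
set_option backward.isDefEq.respectTransparency.types false
set_option linter.unusedSectionVars false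

universe u

open CategoryTheory CategoryTheory.Limits AlgebraicGeometry Opposite

namespace Groth.Agent.IsoSepLib

open _root_.AlgSp Groth.Agent.ASt Groth.Agent.ASp

variable {S : Scheme.{u}} {𝒳 𝒴 : AlgSt.Cat S} [h𝒳 : FibCat.IsFibGrpd 𝒳.p] [h𝒴 : FibCat.IsFibGrpd 𝒴.p]
  (f : 𝒳 ⥤ᵇ 𝒴)

theorem sepQc_diag
    (hXd : AlgSt.RepByAlgSpWith (IsSeparatedMor ⊓ IsQuasiCompactMor) (FibCat.diag (FibCat.toSelf 𝒳)))
    (hYd : AlgSt.RepByAlgSpWith (IsSeparatedMor ⊓ IsQuasiCompactMor) (FibCat.diag (FibCat.toSelf 𝒴))) :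
    AlgSt.RepByAlgSpWith (IsSeparatedMor ⊓ IsQuasiCompactMor) (FibCat.diag f) := by
  haveI : FibCat.IsFibGrpd (FibCat.fp (compJ f (FibCat.toSelf 𝒴)) (compJ f (FibCat.toSelf 𝒴))).p := isFibGrpd_fp
  rw [← comp_toSelf f] at hXd
  refine repByAlgSpWith_of_comp (compLocal_inf compLocal_separated compLocal_quasiCompact)
    (repByAlgSpWith_congr (diagCompJ f _).symm hXd) (repByAlgSpWith_diag_of_isSeparatedMor ?_ ?_)
  · intro E U e he
    have := isProperMor_yon_map e he
    exact ⟨this.1, this.2.1.2⟩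
  · exact repByAlgSpWith_compJ f _ (repByAlgSpWith_mono (fun _ _ _ _ _ h => h.1) hYd)

/-- The self product of a morphism locally of finite type to a locally Noetherian stack has a locally Noetherian
atlas. -/
theorem exists_noeth_atlas (hY : AlgSt.IsAlgStack Scheme.fppfPrecoverage 𝒴)
    (hXd : AlgSt.RepByAlgSp1 (FibCat.diag (FibCat.toSelf 𝒳)))
    (hft : AlgSt.LocQ (LocP @LocallyOfFiniteType) f)
    (hN : AlgSt.SmoothLocally (fun X => IsLocallyNoetherian X) 𝒴) :
    ∃ (W : Over S) (a : FibCat.overCat W ⥤ᵇ FibCat.fp f f), IsLocallyNoetherian W.left ∧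
      AlgSt.RepByAlgSpWith (LocP @Smooth) a ∧ AlgSt.RepByAlgSpWith IsSurjectiveMor a := by
  obtain ⟨U, V, x, y, h, α, hx, hxs, hy, hh⟩ := hft
  haveI : LocallyOfFiniteType h.left := locallyOfFiniteType_left_of_locP hh
  haveI : IsLocallyNoetherian V.left := hN V y hy
  haveI : IsLocallyNoetherian U.left := LocallyOfFiniteType.isLocallyNoetherian h.left
  let xf := BasedFunctor.comp x f
  haveI : FibCat.IsFibGrpd (FibCat.fp f f).p := isFibGrpd_fp
  haveI : FibCat.IsFibGrpd (FibCat.fp f xf).p := isFibGrpd_fp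
  haveI : FibCat.IsFibGrpd (FibCat.fp x (FibCat.fpSnd f f)).p := isFibGrpd_fp
  haveI : FibCat.IsFibGrpd (FibCat.fp x (FibCat.fpFst f xf)).p := isFibGrpd_fp
  have hl : AlgSt.RepByAlgSpWith (LocP @LocallyOfFiniteType) xf := by
    refine repByAlgSpWith_congr α.symm (repByAlgSpWith_comp compLocal_lft
      (repByAlgSpWith_overMap_locP (M := @LocallyOfFiniteType) ‹LocallyOfFiniteType h.left›) ?_)
    exact repByAlgSpWith_mono (fun _ _ a _ _ ha => locP_mono
      (fun _ _ g (hg : Smooth g) => (haveI := hg; inferInstance : LocallyOfFiniteType g)) ha) hy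
  have hq := repByAlgSpWith_fpFst f hl
  obtain ⟨hs, hA, C, p, E, k, hpe, hps, hcomp, -, -, hE⟩ :=
    exists_chart_of_fib (repByAlgSp1_of_with hq) x
  obtain ⟨hs', hA', hP⟩ := (repByAlgSpWith_iff.1 hq).2 U x
  haveI : LocallyOfFiniteType k.left := prop_chart hpe hcomp hP
  haveI : IsLocallyNoetherian C.left := LocallyOfFiniteType.isLocallyNoetherian k.left
  have he := isEquivOver_pasteF f f x
  let w1 := FibCat.fpSnd x (FibCat.fpFst f xf)
  let w2 := BasedFunctor.comp (pasteF f f x) (FibCat.fpSnd x (FibCat.fpSnd f f))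
  refine ⟨C, BasedFunctor.comp (BasedFunctor.comp E w1) w2, inferInstance, ?_, ?_⟩
  · exact repByAlgSpWith_comp compLocal_smooth (repByAlgSpWith_comp compLocal_smooth
      (hE (P := LocP @Smooth) hpe fun v hv => locP_of_repWith (repWith_yon_map
        (haveI : Etale v.left := hv; inferInstance)))
      (repByAlgSpWith_fpSnd _ hx)) (repByAlgSpWith_precomp he (repByAlgSpWith_fpSnd _ hx))
  · exact repByAlgSpWith_comp compLocal_surjective (repByAlgSpWith_comp compLocal_surjective
      (hE (P := IsSurjectiveMor) hps fun v hv => surjective_map_of_repWith (repWith_yon_map hv))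
      (repByAlgSpWith_fpSnd _ hxs)) (repByAlgSpWith_precomp he (repByAlgSpWith_fpSnd _ hxs))

end Groth.Agent.IsoSepLib
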